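import Mathlib
import Cfsg.Prelude.Def_KGroupFacts

/-!
Automorphisms of a faithful transitive group of prime degree: those fixing an element of order `p`
commute, hence the outer automorphism group is metabelian.
-/

set_option autoImplicit false

namespace Cfsg.Agent.Lib.PrimeIndexOut

open scoped Classical
open scoped Pointwise
open scoped commutatorElement

variable {G : Type*} [Group G] {X : Type*} [Fintype X] [MulAction G X] {p : ℕ} [Fact p.Prime]

/-- The matrix of a group element on `X`. -/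
noncomputable def mat (p : ℕ) (X : Type*) [MulAction G X] (g : G) : Matrix X X (ZMod p) :=
  Matrix.of fun y x => if g • x = y then 1 else 0

theorem mul_mat_apply (M : Matrix X X (ZMod p)) (g : G) (y x : X) : (M * mat p X g) y x = M y (g • x) := by
  simp [Matrix.mul_apply, mat]

theorem mat_mul_apply (M : Matrix X X (ZMod p)) (g : G) (y x : X) : (mat p X g * M) y x = M (g⁻¹ • y) x := by
  simp [Matrix.mul_apply, mat, smul_eq_iff_eq_inv_smul]

theorem mat_mul (g h : G) : mat p X (g * h) = mat p X g * mat p X h := by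
  ext y x
  rw [mul_mat_apply]
  simp [mat, mul_smul]

theorem mat_one : mat p X (1 : G) = 1 := by
  ext y x
  simp [mat, Matrix.one_apply, eq_comm]

theorem mat_pow (g : G) (n : ℕ) : mat p X g ^ n = mat p X (g ^ n) := by
  induction n with
  | zero => simp [mat_one]
  | succ n ih => rw [pow_succ, pow_succ, mat_mul, ih]

theorem mat_injective [FaithfulSMul G X] : Function.Injective (mat p X : G → Matrix X X (ZMod p)) := by
  intro g h e
  refine eq_of_smul_eq_smul fun x : X => ?_
  have := congrFun (congrFun e (g • x)) x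
  simp only [mat, Matrix.of_apply, if_true] at this
  by_contra hne
  rw [if_neg (Ne.symm hne)] at this
  exact one_ne_zero this

/-- The `G`-orbit of `(x₀, x₀)` for the twisted diagonal action. -/
def Rel (α : MulAut G) (x₀ x y : X) : Prop := ∃ g : G, g • x₀ = x ∧ α g • x₀ = y

theorem rel_smul (α : MulAut G) (x₀ x y : X) (g : G) : Rel α x₀ (g • x) (α g • y) ↔ Rel α x₀ x y := by
  refine ⟨fun ⟨k, h1, h2⟩ => ⟨g⁻¹ * k, by rw [mul_smul, h1, inv_smul_smul],
    by rw [map_mul, map_inv, mul_smul, h2, inv_smul_smul]⟩,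
    fun ⟨k, h1, h2⟩ => ⟨g * k, by rw [mul_smul, h1], by rw [map_mul, mul_smul, h2]⟩⟩

/-- The intertwiner of the permutation representation and its twist. -/
noncomputable def twist (p : ℕ) (α : MulAut G) (x₀ : X) : Matrix X X (ZMod p) :=
  Matrix.of fun y x => if Rel α x₀ x y then 1 else 0

theorem twist_mat (α : MulAut G) (x₀ : X) (g : G) :
    twist p α x₀ * mat p X g = mat p X (α g) * twist p α x₀ := by
  ext y x
  rw [mul_mat_apply, mat_mul_apply]
  have h := rel_smul α x₀ x ((α g)⁻¹ • y) g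
  rw [smul_inv_smul] at h
  simp [twist, h]

variable [Finite G] [FaithfulSMul G X] [MulAction.IsPretransitive G X]

theorem smul_pow_bij (hX : Nat.card X = p) {u : G} (hu : orderOf u = p) (x : X) :
    Function.Bijective (fun d : Fin p => u ^ (d : ℕ) • x) := by
  have hp := (Fact.out : p.Prime)
  rw [Fintype.bijective_iff_injective_and_card, Fintype.card_fin, ← Nat.card_eq_fintype_card, hX]
  refine ⟨?_, rfl⟩
  obtain ⟨z, hz⟩ : ∃ z : X, u • z ≠ z := by
    by_contra! h
    refine hp.ne_one ?_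
    rw [← hu, orderOf_eq_one_iff]
    exact eq_of_smul_eq_smul fun z : X => by rw [h, one_smul]
  have hper : ∀ w : X, u • w ≠ w → Function.minimalPeriod (u • ·) w = p := fun w hw => by
    have h1 : Function.minimalPeriod (u • ·) w ∣ p := by
      refine Function.IsPeriodicPt.minimalPeriod_dvd (n := p) ?_
      show (u • ·)^[p] w = w
      rw [smul_iterate]; show u ^ p • w = w; rw [← hu, pow_orderOf_eq_one, one_smul]
    rcases (Nat.dvd_prime hp).1 h1 with h | h
    · exact absurd (Function.minimalPeriod_eq_one_iff_isFixedPt.1 h) hw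
    · exact h
  have inj : ∀ w : X, u • w ≠ w → Function.Injective fun d : Fin p => u ^ (d : ℕ) • w := fun w hw a b e => by
    have := Function.iterate_injOn_Iio_minimalPeriod (f := (u • ·)) (x := w)
      (by rw [Set.mem_Iio, hper w hw]; exact a.2) (by rw [Set.mem_Iio, hper w hw]; exact b.2)
      (by simpa [smul_iterate] using e)
    exact Fin.ext this
  refine inj x fun hx => ?_
  obtain ⟨d, hd⟩ := ((Fintype.bijective_iff_injective_and_card _).2
    ⟨inj z hz, by rw [Fintype.card_fin, ← Nat.card_eq_fintype_card, hX]⟩).2 x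
  dsimp only at hd
  have h2 : u ^ (d : ℕ) • (u • z) = u ^ (d : ℕ) • z := by
    rw [← mul_smul, ← pow_succ, pow_succ', mul_smul, hd, hx]
  exact hz (smul_left_cancel _ h2)

theorem not_dvd_stabilizer (hX : Nat.card X = p) (x₀ : X) :
    ¬ p ∣ Nat.card (MulAction.stabilizer G x₀) := by
  intro h
  have hp := (Fact.out : p.Prime)
  have h1 : p * p ∣ Nat.card G := by
    rw [← Subgroup.index_mul_card (MulAction.stabilizer G x₀),
      MulAction.index_stabilizer_of_transitive G x₀, hX]
    exact mul_dvd_mul_left p h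
  have h2 : Nat.card G ∣ p.factorial := by
    have := Subgroup.card_dvd_of_injective (MulAction.toPermHom G X) MulAction.toPerm_injective
    rwa [Nat.card_perm, hX] at this
  have h3 : p ^ 2 ∣ p.factorial := by rw [sq]; exact h1.trans h2
  obtain ⟨k, hk⟩ : ∃ k, p = k + 1 := ⟨p - 1, by have := hp.pos; omega⟩
  rw [hk, Nat.factorial_succ, sq, Nat.mul_dvd_mul_iff_left (by omega)] at h3
  have h4 := (Nat.Prime.dvd_factorial (hk ▸ hp)).1 h3
  omega

/-- The set of exponents occurring in the intertwiner. -/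
noncomputable def expSet (p : ℕ) (α : MulAut G) (x₀ : X) (u : G) : Finset (Fin p) :=
  Finset.univ.filter fun d => Rel α x₀ x₀ (u ^ (d : ℕ) • x₀)

theorem card_expSet (hX : Nat.card X = p) {u : G} (hu : orderOf u = p) (α : MulAut G) (x₀ : X) :
    ((expSet p α x₀ u).card : ZMod p) ≠ 0 := by
  have hp := (Fact.out : p.Prime)
  rw [Ne, ZMod.natCast_eq_zero_iff]
  intro hdvd
  have h0 : (⟨0, hp.pos⟩ : Fin p) ∈ expSet p α x₀ u := by
    simp only [expSet, Finset.mem_filter, Finset.mem_univ, true_and, pow_zero, one_smul]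
    exact ⟨1, one_smul _ _, by rw [map_one, one_smul]⟩
  have hall : expSet p α x₀ u = Finset.univ := by
    refine Finset.eq_univ_of_card _ ?_
    rw [Fintype.card_fin]
    refine le_antisymm ((Finset.card_le_univ _).trans (by rw [Fintype.card_fin])) (Nat.le_of_dvd ?_ hdvd)
    exact Finset.card_pos.2 ⟨_, h0⟩
  obtain ⟨K, hK⟩ : ∃ K : Subgroup G, K = (MulAction.stabilizer G x₀).map α.toMonoidHom := ⟨_, rfl⟩
  haveI : MulAction.IsPretransitive K X := by
    refine MulAction.IsPretransitive.mk fun a b => ?_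
    have key : ∀ y : X, ∃ k : K, k • x₀ = y := fun y => by
      obtain ⟨d, hd⟩ := (smul_pow_bij hX hu x₀).2 y
      have hm : d ∈ expSet p α x₀ u := hall ▸ Finset.mem_univ d
      simp only [expSet, Finset.mem_filter, Finset.mem_univ, true_and] at hm
      obtain ⟨g, hg1, hg2⟩ := hm
      exact ⟨⟨α g, hK ▸ ⟨g, hg1, rfl⟩⟩, hg2.trans hd⟩
    obtain ⟨ka, rfl⟩ := key a
    obtain ⟨kb, rfl⟩ := key b
    exact ⟨kb * ka⁻¹, by rw [mul_smul, inv_smul_smul]⟩
  have h1 : p ∣ Nat.card K := by
    have := MulAction.index_stabilizer_of_transitive K x₀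
    rw [hX] at this
    exact this ▸ Subgroup.index_dvd_card _
  rw [hK, Nat.card_congr (Subgroup.equivMapOfInjective _ _ α.injective).toEquiv.symm] at h1
  exact not_dvd_stabilizer hX x₀ h1

theorem twist_eq (hX : Nat.card X = p) {u : G} (hu : orderOf u = p) (α : MulAut G) (hα : α u = u) (x₀ : X) :
    twist p α x₀ = Polynomial.aeval (mat p X u)
      (∑ d ∈ expSet p α x₀ u, (Polynomial.X : Polynomial (ZMod p)) ^ (d : ℕ)) := by
  simp only [map_sum, map_pow, Polynomial.aeval_X, mat_pow]
  ext y x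
  obtain ⟨d, rfl⟩ := (smul_pow_bij hX hu x).2 y
  obtain ⟨k, rfl⟩ := (smul_pow_bij hX hu x₀).2 x
  rw [Matrix.sum_apply]
  dsimp only
  have hrel : Rel α x₀ (u ^ (k : ℕ) • x₀) (u ^ (d : ℕ) • u ^ (k : ℕ) • x₀) ↔ d ∈ expSet p α x₀ u := by
    have h := rel_smul α x₀ x₀ (u ^ (d : ℕ) • x₀) (u ^ (k : ℕ))
    rw [map_pow, hα, ← mul_smul, ← pow_add, add_comm, pow_add, mul_smul] at h
    simp [expSet, h]
  have hin : ∀ e : Fin p, u ^ (e : ℕ) • u ^ (k : ℕ) • x₀ = u ^ (d : ℕ) • u ^ (k : ℕ) • x₀ ↔ e = d :=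
    fun e => ⟨fun h => (smul_pow_bij hX hu (u ^ (k : ℕ) • x₀)).1 h, fun h => h ▸ rfl⟩
  simp [twist, mat, hrel, hin]

theorem isUnit_aeval (hX : Nat.card X = p) {u : G} (hu : orderOf u = p) (α : MulAut G) (x₀ : X) :
    IsUnit (Polynomial.aeval (mat p X u)
      (∑ d ∈ expSet p α x₀ u, (Polynomial.X : Polynomial (ZMod p)) ^ (d : ℕ))) := by
  refine isUnit_pow_iff (Fact.out : p.Prime).ne_zero |>.1 ?_
  rw [← map_pow, sum_pow_char, map_sum]
  have : ∀ d : Fin p, Polynomial.aeval (mat p X u) (((Polynomial.X : Polynomial (ZMod p)) ^ (d : ℕ)) ^ p) = 1 :=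
    fun d => by
      have hup : u ^ p = 1 := by rw [← hu]; exact pow_orderOf_eq_one u
      rw [map_pow, map_pow, Polynomial.aeval_X, ← pow_mul, mul_comm, pow_mul, mat_pow, hup, mat_one, one_pow]
  simp only [this, Finset.sum_const, nsmul_eq_mul, mul_one]
  have h := (isUnit_iff_ne_zero.2 (card_expSet hX hu α x₀)).map (algebraMap (ZMod p) (Matrix X X (ZMod p)))
  simpa using h

/-- Automorphisms fixing an element of order `p` commute. -/
theorem commute_of_fix (hX : Nat.card X = p) {u : G} (hu : orderOf u = p) (x₀ : X) {α β : MulAut G}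
    (hα : α u = u) (hβ : β u = u) : α * β = β * α := by
  obtain ⟨A, hA⟩ : ∃ A, A = twist p α x₀ := ⟨_, rfl⟩
  obtain ⟨B, hB⟩ : ∃ B, B = twist p β x₀ := ⟨_, rfl⟩
  have hAB : A * B = B * A := by
    rw [hA, hB, twist_eq hX hu α hα, twist_eq hX hu β hβ, ← map_mul, ← map_mul, mul_comm]
  have hU : IsUnit (A * B) := by
    rw [hA, hB, twist_eq hX hu α hα, twist_eq hX hu β hβ]
    exact (isUnit_aeval hX hu α x₀).mul (isUnit_aeval hX hu β x₀)
  refine MulEquiv.ext fun g => mat_injective (p := p) (X := X) ?_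
  apply hU.mul_left_injective
  show mat p X ((α * β) g) * (A * B) = mat p X ((β * α) g) * (A * B)
  have h1 : A * B * mat p X g = mat p X ((α * β) g) * (A * B) := by
    rw [hA, hB, mul_assoc, twist_mat, ← mul_assoc, twist_mat, mul_assoc, MulAut.mul_apply]
  have h2 : B * A * mat p X g = mat p X ((β * α) g) * (B * A) := by
    rw [hA, hB, mul_assoc, twist_mat, ← mul_assoc, twist_mat, mul_assoc, MulAut.mul_apply]
  rw [← hAB] at h2
  exact h1.symm.trans h2

theorem isSolvable_out (hX : Nat.card X = p) (x₀ : X) {H : Subgroup G}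
    (_hH : MulAction.stabilizer G x₀ = H) : Group.IsSolvable (Cfsg.Out G) := by
  have hp := (Fact.out : p.Prime)
  have hdvd : p ∣ Nat.card G := by
    rw [← hX, ← MulAction.index_stabilizer_of_transitive G x₀]; exact Subgroup.index_dvd_card _
  obtain ⟨u, hu⟩ := exists_prime_orderOf_dvd_card' p hdvd
  have hs : ∀ v : G, orderOf v = p → ∃ S : Sylow p G, (S : Subgroup G) = Subgroup.zpowers v := fun v hv => by
    have hv' : IsPGroup p (Subgroup.zpowers v) := IsPGroup.of_card (n := 1) (by rw [Nat.card_zpowers, hv, pow_one])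
    refine ⟨⟨Subgroup.zpowers v, hv', fun {Q} hQ hle => ?_⟩, rfl⟩
    obtain ⟨n, hn⟩ := IsPGroup.iff_card.1 hQ
    refine (Subgroup.eq_of_le_of_card_ge hle ?_).symm
    rw [hn, Nat.card_zpowers, hv]
    rcases Nat.lt_or_ge n 2 with h | h
    · exact (Nat.pow_le_pow_right hp.pos (by omega : n ≤ 1)).trans (by rw [pow_one])
    · exfalso
      have h1 : p ^ 2 ∣ Nat.card G := (Nat.pow_dvd_pow p h).trans (hn ▸ Subgroup.card_subgroup_dvd_card Q)
      rw [← Subgroup.index_mul_card (MulAction.stabilizer G x₀), MulAction.index_stabilizer_of_transitive G x₀,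
        hX, sq, Nat.mul_dvd_mul_iff_left hp.pos] at h1
      exact not_dvd_stabilizer hX x₀ h1
  obtain ⟨N, hN⟩ : ∃ N : Subgroup (MulAut G), N =
      MulAction.stabilizer (MulAut G) (Subgroup.zpowers u) := ⟨_, rfl⟩
  have hNu : ∀ α ∈ N, ∃ a : ℤ, α u = u ^ a := fun α hα => by
    rw [hN, MulAction.mem_stabilizer_iff] at hα
    have : α u ∈ Subgroup.zpowers u :=
      hα ▸ Subgroup.smul_mem_pointwise_smul u α _ (Subgroup.mem_zpowers u)
    obtain ⟨a, ha⟩ := this
    exact ⟨a, ha.symm⟩
  haveI : Group.IsSolvable N := by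
    refine ⟨⟨2, ?_⟩⟩
    have hC : ∀ c ∈ commutator N, (c : MulAut G) u = u := by
      intro c hc
      rw [commutator_eq_closure] at hc
      refine Subgroup.closure_induction ?_ (by simp) (fun a b _ _ ha hb => ?_) (fun a _ ha => ?_) hc
      · rintro _ ⟨α, β, rfl⟩
        obtain ⟨a, ha⟩ := hNu α α.2
        obtain ⟨b, hb⟩ := hNu β β.2
        have hcomm : ((α * β : N) : MulAut G) u = ((β * α : N) : MulAut G) u := by
          simp only [Subgroup.coe_mul, MulAut.mul_apply, ha, hb, map_zpow, ← zpow_mul]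
          rw [mul_comm]
        have e : ((⁅α, β⁆ : N) : MulAut G) = ((α * β : N) : MulAut G) * (((β * α : N) : MulAut G))⁻¹ := by
          simp [commutatorElement_def, mul_assoc]
        rw [e, MulAut.mul_apply]
        obtain ⟨w, hw⟩ : ∃ w, w = (((β * α : N) : MulAut G))⁻¹ u := ⟨_, rfl⟩
        have hw' : ((β * α : N) : MulAut G) w = u := by rw [hw]; exact MulAut.apply_inv_self _ _ _
        rw [← hw]
        obtain ⟨a', ha'⟩ := hNu _ (inv_mem (β * α : N).2)
        have hwz : w = u ^ a' := hw.trans ha'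
        rw [hwz, map_zpow, hcomm, ← map_zpow, ← hwz, hw']
      · simp [MulAut.mul_apply, ha, hb]
      · rw [Subgroup.coe_inv]
        exact (MulEquiv.symm_apply_eq _).2 ha.symm
    rw [derivedSeries_succ, derivedSeries_one, Subgroup.commutator_eq_bot_iff_le_centralizer]
    intro a ha b hb
    exact Subtype.ext (commute_of_fix hX hu x₀ (hC b hb) (hC a ha))
  refine solvable_of_surjective (f := (QuotientGroup.mk' (Cfsg.Inn G)).comp N.subtype) fun x => ?_
  obtain ⟨α, rfl⟩ := QuotientGroup.mk'_surjective (Cfsg.Inn G) x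
  obtain ⟨S, hS⟩ := hs u hu
  obtain ⟨T, hT⟩ := hs (α u) (by rw [MulEquiv.orderOf_eq, hu])
  obtain ⟨g, hg⟩ := MulAction.exists_smul_eq G T S
  refine ⟨⟨MulAut.conj g * α, ?_⟩, ?_⟩
  · rw [hN, MulAction.mem_stabilizer_iff, mul_smul]
    have e1 : α • Subgroup.zpowers u = Subgroup.zpowers (α u) := MonoidHom.map_zpowers _ u
    rw [e1, ← hT, ← hS, ← hg]
    rfl
  · show QuotientGroup.mk' (Cfsg.Inn G) (MulAut.conj g * α) = _
    rw [map_mul, QuotientGroup.mk'_apply, (QuotientGroup.eq_one_iff _).2 (MonoidHom.mem_range.2 ⟨g, rfl⟩), one_mul]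

end Cfsg.Agent.Lib.PrimeIndexOut
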